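import Groth.Agent.Lib.CI2.SyntKoszul
import Groth.Agent.Lib.CI2.CotProj
import Groth.Agent.Lib.CI2.NearFibre
import Mathlib

/-!
# Frames of syntomic algebras in terms of an idempotent matrix of the conormal module
-/

set_option autoImplicit false
set_option linter.style.haveILetI false
universe u

open TensorProduct Matrix

namespace Groth.Agent.SyntLift3

variable {R : Type u} [CommRing R]

/-- All fibres have dimension at most `d`. -/
def FibDimLE (R S : Type u) [CommRing R] [CommRing S] [Algebra R S] (d : ℕ) : Prop :=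
  ∀ p : PrimeSpectrum R, ringKrullDim (p.asIdeal.Fiber S) ≤ (d : WithBot ℕ∞)

section Dim

variable {S T : Type u} [CommRing S] [CommRing T] [Algebra R S] [Algebra R T] {d : ℕ}

theorem fibDimLE_of_surjective (f : S →ₐ[R] T) (hf : Function.Surjective f) (h : FibDimLE R S d) :
    FibDimLE R T d := by
  intro p
  let g := Algebra.TensorProduct.map (AlgHom.id R p.asIdeal.ResidueField) f
  have hg : Function.Surjective g := by
    intro x
    induction x with
    | zero => exact ⟨0, map_zero g⟩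
    | tmul a b => obtain ⟨b, rfl⟩ := hf b; exact ⟨a ⊗ₜ b, Algebra.TensorProduct.map_tmul _ _ a b⟩
    | add x y hx hy =>
      obtain ⟨x, rfl⟩ := hx
      obtain ⟨y, rfl⟩ := hy
      exact ⟨x + y, map_add g x y⟩
  exact (ringKrullDim_le_of_surjective g.toRingHom hg).trans (h p)

theorem fibDimLE_congr (e : S ≃ₐ[R] T) (h : FibDimLE R S d) : FibDimLE R T d :=
  fibDimLE_of_surjective e.toAlgHom e.surjective h

theorem fibDimLE_away (h : FibDimLE R S d) (g : S) [Algebra S T] [IsScalarTower R S T]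
    [IsLocalization.Away g T] : FibDimLE R T d := by
  intro p
  let K := p.asIdeal.ResidueField
  let E := IsLocalization.Away.tensorProductEquivTMulRight R K g T
  rw [ringKrullDim_eq_of_ringEquiv E.toRingEquiv]
  refine le_trans ?_ (h p)
  refine Order.krullDim_le_of_strictMono
    (PrimeSpectrum.comap (algebraMap (p.asIdeal.Fiber S) (Localization.Away ((1 : K) ⊗ₜ[R] g)))) ?_
  exact Monotone.strictMono_of_injective (fun _ _ hab => Ideal.comap_mono hab)
    (PrimeSpectrum.localization_comap_injective _ (Submonoid.powers ((1 : K) ⊗ₜ[R] g)))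

theorem fibDimLE_of_cover
    (h : ∀ z : PrimeSpectrum S, ∃ g : S, g ∉ z.asIdeal ∧ FibDimLE R (Localization.Away g) d) :
    FibDimLE R S d := by
  intro p
  let K := p.asIdeal.ResidueField
  rw [← PrimeSpectrum.topologicalKrullDim_eq_ringKrullDim, TopDimLib.dim_eq_iSup_localDim]
  refine iSup_le fun w => ?_
  obtain ⟨g, hg, hd⟩ := h (PrimeSpectrum.comap
    (Algebra.TensorProduct.includeRight : S →ₐ[R] p.asIdeal.Fiber S).toRingHom w)
  refine (CI2.localDim_le_of_equiv (RingEquiv.refl _) w ((1 : K) ⊗ₜ[R] g) hg).trans ?_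
  rw [← ringKrullDim_eq_of_ringEquiv
    (IsLocalization.Away.tensorProductEquivTMulRight R K g (Localization.Away g)).toRingEquiv]
  exact hd p

theorem fibDimLE_mvPolynomial [Algebra.FiniteType R S] (h : FibDimLE R S d) (c : ℕ) :
    FibDimLE R (MvPolynomial (Fin c) S) (d + c) := by
  intro p
  let K := p.asIdeal.ResidueField
  let e : K ⊗[R] MvPolynomial (Fin c) S ≃+* MvPolynomial (Fin c) (K ⊗[R] S) :=
    ((Algebra.TensorProduct.comm R K (MvPolynomial (Fin c) S)).toRingEquiv.trans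
      (((Algebra.TensorProduct.comm R (MvPolynomial (Fin c) S) K).toRingEquiv).trans
        (MvPolynomial.rTensorAlgEquiv (R := R) (S := K) (N := S) (σ := Fin c)).toRingEquiv))
  haveI : IsNoetherianRing (K ⊗[R] S) := Algebra.FiniteType.isNoetherianRing K (K ⊗[R] S)
  rw [ringKrullDim_eq_of_ringEquiv e, MvPolynomial.ringKrullDim_of_isNoetherianRing, Nat.card_fin,
    Nat.cast_add]
  exact add_le_add_left (h p) _

theorem isRelGCI_of_fibDimLE {n c : ℕ} {F : Fin c → MvPolynomial (Fin n) R} (hcn : c ≤ n)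
    (h : FibDimLE R (Synt.RelGCIRing R n c F) (n - c)) : Synt.IsRelGCI R n c F := by
  intro p hp
  refine ⟨hcn, le_antisymm (h p) ?_⟩
  let κ := p.asIdeal.ResidueField
  let I := Ideal.span (Set.range F)
  let ef := CI2.fibreEquiv p.asIdeal I
  rw [ringKrullDim_eq_of_ringEquiv ef]
  haveI : Nontrivial (MvPolynomial (Fin n) κ ⧸ I.map (CI2.red p.asIdeal)) := ef.symm.toEquiv.nontrivial
  obtain ⟨M, hM⟩ := Ideal.exists_maximal (MvPolynomial (Fin n) κ ⧸ I.map (CI2.red p.asIdeal))
  have hmap : RingHom.ker (Ideal.Quotient.mkₐ κ (I.map (CI2.red p.asIdeal))).toRingHom =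
      Ideal.span (Set.range fun i => CI2.red p.asIdeal (F i)) := by
    refine Ideal.mk_ker.trans ?_
    rw [Ideal.map_span, ← Set.range_comp]
    rfl
  refine le_trans ?_ (Ideal.height_le_ringKrullDim_of_ne_top hM.ne_top)
  exact WithBot.coe_le_coe.mpr
    (CI2.le_height_maximal (Ideal.Quotient.mkₐ κ (I.map (CI2.red p.asIdeal))) Ideal.Quotient.mk_surjective _ hmap M)

theorem fibDimLE_of_isRelGCI {n c : ℕ} {F : Fin c → MvPolynomial (Fin n) R} (hF : Synt.IsRelGCI R n c F) :
    FibDimLE R (Synt.RelGCIRing R n c F) (n - c) := by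
  intro p
  rcases subsingleton_or_nontrivial (p.asIdeal.Fiber (Synt.RelGCIRing R n c F)) with hs | hn
  · rw [ringKrullDim_eq_bot_of_subsingleton]; exact bot_le
  · exact (hF p hn).2.le

end Dim

section Matrix

variable {B : Type u} [CommRing B]

/-- An idempotent matrix (modulo `K`) cutting out a projective conormal module. -/
theorem exists_idem_matrix_of_projective (K : Ideal B) {m : ℕ} (f : Fin m → B)
    (hf : Ideal.span (Set.range f) = K) [Module.Projective (B ⧸ K) K.Cotangent] :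
    ∃ E : Matrix (Fin m) (Fin m) B, (∀ i j, (E * E - E) i j ∈ K) ∧ (∀ l, f l - (E *ᵥ f) l ∈ K * K) ∧
      ∀ v : Fin m → B, v ⬝ᵥ f ∈ K * K → ∀ j, (v ᵥ* E) j ∈ K := by
  classical
  let S := B ⧸ K
  have hfK : ∀ i, f i ∈ K := fun i => hf.le (Ideal.subset_span ⟨i, rfl⟩)
  let c : Fin m → K.Cotangent := fun j => K.toCotangent ⟨f j, hfK j⟩
  let π : (Fin m → S) →ₗ[S] K.Cotangent := Fintype.linearCombination S c
  have hπmk : ∀ (v : Fin m → B), π (fun j => Ideal.Quotient.mk K (v j)) =
      K.toCotangent ⟨v ⬝ᵥ f, sum_mem fun i _ => K.mul_mem_left _ (hfK i)⟩ := fun v => by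
    rw [Fintype.linearCombination_apply]
    have : (⟨v ⬝ᵥ f, sum_mem fun i _ => K.mul_mem_left _ (hfK i)⟩ : K) = ∑ i, v i • (⟨f i, hfK i⟩ : K) := by
      apply Subtype.ext
      simp [dotProduct]
    rw [this, map_sum]
    refine Finset.sum_congr rfl fun i _ => ?_
    rw [map_smul]
    rfl
  have hπ : Function.Surjective π := fun x => by
    obtain ⟨⟨y, hy⟩, rfl⟩ := K.toCotangent_surjective x
    obtain ⟨v, hv⟩ := (Submodule.mem_span_range_iff_exists_fun B).1 (hf.ge hy)
    refine ⟨fun j => Ideal.Quotient.mk K (v j), ?_⟩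
    rw [hπmk]
    congr 1
    exact Subtype.ext hv
  obtain ⟨s, hs⟩ := Module.projective_lifting_property π LinearMap.id hπ
  have hsx : ∀ x, π (s x) = x := fun x => LinearMap.congr_fun hs x
  choose E hE using fun l j => Ideal.Quotient.mk_surjective (s (c l) j)
  have hEf : ∀ v : Fin m → B, ∀ j, Ideal.Quotient.mk K ((v ᵥ* Matrix.of E) j) =
      s (π fun i => Ideal.Quotient.mk K (v i)) j := fun v j => by
    rw [Fintype.linearCombination_apply, map_sum]
    simp only [Matrix.vecMul, dotProduct, Matrix.of_apply, map_sum, map_mul, hE, map_smul,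
      Finset.sum_apply, Pi.smul_apply, smul_eq_mul]
  have hEc : ∀ l, π (fun j => Ideal.Quotient.mk K (E l j)) = c l := fun l => by
    simp only [hE]
    exact hsx _
  refine ⟨Matrix.of E, fun i j => ?_, fun l => ?_, fun v hv j => ?_⟩
  · rw [← Ideal.Quotient.eq_zero_iff_mem, Matrix.sub_apply, map_sub, sub_eq_zero]
    show Ideal.Quotient.mk K ((E i ᵥ* Matrix.of E) j) = _
    rw [hEf, hEc]
    exact (hE i j).symm
  · have h := hEc l
    rw [hπmk, eq_comm, Ideal.toCotangent_eq, pow_two] at h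
    exact h
  · rw [← Ideal.Quotient.eq_zero_iff_mem, hEf, hπmk]
    have : K.toCotangent ⟨v ⬝ᵥ f, sum_mem fun i _ => K.mul_mem_left _ (hfK i)⟩ = 0 := by
      rw [Ideal.toCotangent_eq_zero, pow_two]
      exact hv
    rw [this, map_zero]
    rfl

end Matrix

section Syntomic

variable {A : Type u} [CommRing A] [Algebra R A] {n : ℕ}

theorem exists_idem_matrix (h : Synt.IsSyntomic R A) (φ : MvPolynomial (Fin n) R →ₐ[R] A)
    (hφ : Function.Surjective φ) {m : ℕ} (f : Fin m → MvPolynomial (Fin n) R)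
    (hf : Ideal.span (Set.range f) = RingHom.ker φ.toRingHom) :
    ∃ E : Matrix (Fin m) (Fin m) (MvPolynomial (Fin n) R), (∀ i j, φ ((E * E - E) i j) = 0) ∧
      (∀ l, f l - (E *ᵥ f) l ∈ RingHom.ker φ.toRingHom * RingHom.ker φ.toRingHom) ∧
      ∀ v : Fin m → MvPolynomial (Fin n) R, v ⬝ᵥ f = 0 → ∀ j, φ ((v ᵥ* E) j) = 0 := by
  haveI := (CI2.projective_cotangent_of_isKR (CI2.isKoszulRegularIdeal_of_isSyntomic h φ hφ)).2
  obtain ⟨E, h1, h2, h3⟩ := exists_idem_matrix_of_projective (RingHom.ker φ.toRingHom) f hf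
  exact ⟨E, h1, h2, fun v hv => h3 v (hv ▸ zero_mem _)⟩

/-- Near every point, `W = H - b a` kills the relations and (after `E`) vanishes on `A`; the
neighbourhood `A_H` has fibres of dimension at most `n - c`. -/
theorem exists_matrix_frame (h : Synt.IsSyntomic R A) (φ : MvPolynomial (Fin n) R →ₐ[R] A)
    (hφ : Function.Surjective φ) {m : ℕ} (f : Fin m → MvPolynomial (Fin n) R)
    (hf : Ideal.span (Set.range f) = RingHom.ker φ.toRingHom)
    (E : Matrix (Fin m) (Fin m) (MvPolynomial (Fin n) R))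
    (hE : ∀ v : Fin m → MvPolynomial (Fin n) R, v ⬝ᵥ f = 0 → ∀ j, φ ((v ᵥ* E) j) = 0)
    (q : PrimeSpectrum A) :
    ∃ (H : MvPolynomial (Fin n) R) (c : ℕ) (a : Matrix (Fin c) (Fin m) (MvPolynomial (Fin n) R))
      (b : Matrix (Fin m) (Fin c) (MvPolynomial (Fin n) R)), φ H ∉ q.asIdeal ∧ c ≤ n ∧
      FibDimLE R (Localization.Away (φ H)) (n - c) ∧
      (H • (1 : Matrix (Fin m) (Fin m) (MvPolynomial (Fin n) R)) - b * a) *ᵥ f = 0 ∧
      ∀ l j, φ (((H • (1 : Matrix (Fin m) (Fin m) (MvPolynomial (Fin n) R)) - b * a) * E) l j) = 0 := by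
  classical
  let K := RingHom.ker φ.toRingHom
  let e : (MvPolynomial (Fin n) R ⧸ K) ≃ₐ[R] A := Ideal.quotientKerAlgEquivOfSurjective hφ
  have hK : K.FG := ⟨(Set.finite_range f).toFinset, by simp [hf, K]⟩
  let q' : Ideal (MvPolynomial (Fin n) R ⧸ K) := q.asIdeal.comap e
  haveI : q'.IsPrime := Ideal.IsPrime.comap _
  obtain ⟨H, c, F, hH, hF, hHF, hrel, -⟩ := CI2.exists_frame K hK 1
    (CI2.isSyntomic_away (CI2.isSyntomic_congr e.symm h) 1 _) q'
    ((Ideal.ne_top_iff_one q').1 (Ideal.IsPrime.ne_top inferInstance))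
  have hHq : φ H ∉ q.asIdeal := hH
  choose a ha using fun i => (Submodule.mem_span_range_iff_exists_fun _).1 (hf.ge (hF i))
  choose b hb using fun l => (Submodule.mem_span_range_iff_exists_fun _).1
    (hHF (f l) (hf.le (Ideal.subset_span ⟨l, rfl⟩)))
  let J := Ideal.span (Set.range F)
  have hJ : ∀ x ∈ J, φ x = 0 := fun x hx =>
    Ideal.span_le.2 (by rintro _ ⟨i, rfl⟩; exact hF i) hx
  let ψ : Synt.RelGCIRing R n c F →ₐ[R] A := Ideal.Quotient.liftₐ J φ hJ
  have hψ : Function.Surjective ψ := fun y => by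
    obtain ⟨x, rfl⟩ := hφ y
    exact ⟨Ideal.Quotient.mk J x, rfl⟩
  obtain ⟨e1⟩ := CI2.nonempty_away_equiv_of_surjective ψ hψ (Ideal.Quotient.mk J H) fun x hx => by
    obtain ⟨x, rfl⟩ := Ideal.Quotient.mk_surjective x
    exact ⟨1, by rw [pow_one, ← map_mul, Ideal.Quotient.eq_zero_iff_mem]; exact hHF x hx⟩
  obtain ⟨e2⟩ := CI2.nonempty_awayEquiv F H
  let e3 : Synt.RelGCIRing R (n + 1) (c + 1) (CI2.awayRel F H) ≃ₐ[R] Localization.Away (φ H) :=
    (e1.trans e2).symm
  have hcn : c ≤ n := by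
    haveI : Nontrivial (Localization.Away (φ H)) :=
      not_subsingleton_iff_nontrivial.1 fun hs => by
        obtain ⟨k, hk⟩ := (IsLocalization.subsingleton_iff (S := Localization.Away (φ H))
          (M := Submonoid.powers (φ H))).1 hs
        exact hHq (q.2.mem_of_pow_mem k (by rw [show φ H ^ k = 0 from hk]; exact zero_mem _))
    obtain ⟨z⟩ : Nonempty (PrimeSpectrum (Synt.RelGCIRing R (n + 1) (c + 1) (CI2.awayRel F H))) :=
      PrimeSpectrum.nonempty_iff_nontrivial.2 e3.toEquiv.nontrivial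
    exact Nat.le_of_succ_le_succ (hrel _ (CI2.nonempty_fibre z _ rfl)).1
  have hW : (H • (1 : Matrix (Fin m) (Fin m) (MvPolynomial (Fin n) R)) - Matrix.of b * Matrix.of a) *ᵥ f = 0 := by
    funext l
    rw [Matrix.sub_mulVec, Matrix.smul_mulVec, Matrix.one_mulVec, ← Matrix.mulVec_mulVec, Pi.sub_apply,
      Pi.smul_apply, Pi.zero_apply, sub_eq_zero, smul_eq_mul]
    refine (hb l).symm.trans ?_
    simp only [Matrix.mulVec, dotProduct, Matrix.of_apply, smul_eq_mul] at ha ⊢
    exact Finset.sum_congr rfl fun i _ => by rw [ha i]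
  refine ⟨H, c, Matrix.of a, Matrix.of b, hHq, hcn, ?_, hW, fun l j => ?_⟩
  · rw [show n - c = n + 1 - (c + 1) by omega]
    exact fibDimLE_congr e3 (fibDimLE_of_isRelGCI hrel)
  · exact hE (fun i => (H • (1 : Matrix (Fin m) (Fin m) (MvPolynomial (Fin n) R)) - Matrix.of b * Matrix.of a) l i)
      (congrFun hW l) j

end Syntomic

end Groth.Agent.SyntLift3
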