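import Groth.Agent.Lib.SyntLift3.Frame
import Groth.Agent.Lib.SmoothLiftH7.IdemMatrix
import Groth.Agent.Lib.SmoothLiftH7.Away
import Groth.Agent.Lib.CI2.Synt
import Groth.Agent.S9172
import Mathlib

/-!
# Syntomic algebras over `R ⧸ I` lift to syntomic algebras over `R`
-/

set_option autoImplicit false
set_option linter.style.haveILetI false
universe u

open Matrix MvPolynomial

namespace Groth.Agent.SyntLift3

section Mul

variable {R S : Type u} [CommRing R] [CommRing S] [Algebra R S]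

theorem nonempty_away_mul (x y : S) :
    Nonempty (Localization.Away (algebraMap S (Localization.Away x) y) ≃ₐ[R] Localization.Away (x * y)) := by
  let T := Localization.Away (algebraMap S (Localization.Away x) y)
  haveI : IsLocalization.Away (x * y) T := IsLocalization.Away.mul' (Localization.Away x) T x y
  exact ⟨(IsLocalization.algEquiv (Submonoid.powers (x * y)) T (Localization.Away (x * y))).restrictScalars R⟩

theorem fibDimLE_away_mul {d : ℕ} (x y : S) (h : FibDimLE R (Localization.Away x) d) :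
    FibDimLE R (Localization.Away (x * y)) d := by
  obtain ⟨e⟩ := nonempty_away_mul (R := R) x y
  exact fibDimLE_congr e (fibDimLE_away h (algebraMap S (Localization.Away x) y))

theorem isSyntomic_away_mul (x y : S) (h : Synt.IsSyntomic R (Localization.Away x)) :
    Synt.IsSyntomic R (Localization.Away (x * y)) := by
  obtain ⟨e⟩ := nonempty_away_mul (R := R) x y
  exact CI2.isSyntomic_congr e (CI2.isSyntomic_away h (algebraMap S (Localization.Away x) y) _)

end Mul

theorem sup_mul_sup_le {B : Type u} [CommRing B] (A D : Ideal B) : (A ⊔ D) * (A ⊔ D) ≤ D * D ⊔ A := by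
  refine Ideal.mul_le.2 fun x hx y hy => ?_
  obtain ⟨a, ha, d, hd, rfl⟩ := Submodule.mem_sup.1 hx
  obtain ⟨a', ha', d', hd', rfl⟩ := Submodule.mem_sup.1 hy
  rw [show (a + d) * (a' + d') = d * d' + (a * (a' + d') + d * a') by ring]
  exact add_mem (Submodule.mem_sup_left (Ideal.mul_mem_mul hd hd'))
    (Submodule.mem_sup_right (add_mem (A.mul_mem_right _ ha) (A.mul_mem_left _ ha')))

theorem nakayama_aux {B : Type u} [CommRing B] (A D Q K : Ideal B) (hK : K = A ⊔ D) (hQ : Q ≤ K)
    (h : K ≤ K * K ⊔ (Q ⊔ A)) : D ≤ D * D ⊔ (Q ⊔ A) ∧ D ⊔ (Q ⊔ A) = K := by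
  refine ⟨(le_sup_right.trans hK.ge).trans (h.trans (sup_le ?_ le_sup_right)), le_antisymm ?_ ?_⟩
  · rw [hK]
    exact (sup_mul_sup_le A D).trans (sup_le le_sup_left (le_sup_right.trans le_sup_right))
  · exact sup_le (hK ▸ le_sup_right) (sup_le hQ (hK ▸ le_sup_left))
  · exact hK.le.trans (sup_le (le_sup_right.trans le_sup_right) le_sup_left)

theorem span_range_append {B : Type u} [CommRing B] {a b : ℕ} (G : Fin a → B) (t : Fin b → B) :
    Ideal.span (Set.range (Fin.append G t)) = Ideal.span (Set.range G) ⊔ Ideal.span (Set.range t) := by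
  rw [← Ideal.span_union]
  congr 1
  ext x
  constructor
  · rintro ⟨i, rfl⟩
    refine Fin.addCases (fun i => ?_) (fun j => ?_) i
    · exact Or.inl ⟨i, (Fin.append_left _ _ _).symm⟩
    · exact Or.inr ⟨j, (Fin.append_right _ _ _).symm⟩
  · rintro (⟨i, rfl⟩ | ⟨j, rfl⟩)
    · exact ⟨_, Fin.append_left _ _ i⟩
    · exact ⟨_, Fin.append_right _ _ j⟩

/-- A presentation by `k` relations in `n + k` variables of an étale algebra over `R[x_1, …, x_n]`. -/
theorem exists_presentation_etale {R : Type u} [CommRing R] {n : ℕ} (C : Type u) [CommRing C]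
    [Algebra (MvPolynomial (Fin n) R) C] [Algebra R C] [IsScalarTower R (MvPolynomial (Fin n) R) C]
    [Algebra.Etale (MvPolynomial (Fin n) R) C] :
    ∃ (k : ℕ) (Φ : MvPolynomial (Fin (n + k)) R →ₐ[R] C) (G : Fin k → MvPolynomial (Fin (n + k)) R),
      Function.Surjective Φ ∧ RingHom.ker Φ.toRingHom = Ideal.span (Set.range G) := by
  classical
  let P := MvPolynomial (Fin n) R
  obtain ⟨ι, σ, _, _, Pr, hPr⟩ :=
    (Algebra.Etale.iff_isStandardSmoothOfRelativeDimension_zero.1
      (inferInstance : Algebra.Etale P C)).out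
  have hcard : Nat.card ι = Nat.card σ := by
    have h1 : Nat.card ι - Nat.card σ = 0 := hPr
    have h2 : Nat.card σ ≤ Nat.card ι := Nat.card_le_card_of_injective Pr.map Pr.map_inj
    omega
  let k := Nat.card ι
  let eι : ι ≃ Fin k := Finite.equivFin ι
  let eσ : Fin k ≃ σ := (finCongr hcard).trans (Finite.equivFin σ).symm
  let e : MvPolynomial (Fin (n + k)) R ≃ₐ[R] MvPolynomial ι P :=
    (renameEquiv R ((finSumFinEquiv.symm.trans (Equiv.sumComm (Fin n) (Fin k))).trans
      (Equiv.sumCongr eι.symm (Equiv.refl (Fin n))))).trans (sumAlgEquiv R ι (Fin n))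
  let π : MvPolynomial ι P →ₐ[R] C := (aeval Pr.val).restrictScalars R
  refine ⟨k, π.comp e.toAlgHom, fun i => e.symm (Pr.relation (eσ i)), ?_, ?_⟩
  · exact Pr.aeval_val_surjective.comp e.surjective
  · have hr : Set.range (fun i => e.symm (Pr.relation (eσ i))) = e.symm '' Set.range Pr.relation := by
      rw [← Set.range_comp]
      exact eσ.surjective.range_comp (fun s => e.symm (Pr.relation s))
    rw [hr]
    show _ = Ideal.span (e.symm.toRingEquiv.toRingHom '' Set.range Pr.relation)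
    rw [← Ideal.map_span, Pr.span_range_relation_eq_ker,
      Algebra.Generators.ker_eq_ker_aeval_val]
    ext x
    rw [RingHom.mem_ker]
    constructor
    · intro hx
      have := Ideal.mem_map_of_mem e.symm.toRingEquiv.toRingHom (x := e x)
        (I := RingHom.ker (aeval Pr.val : MvPolynomial ι P →ₐ[P] C)) hx
      exact (congrArg (· ∈ _) (e.symm_apply_apply x)).mp this
    · intro hx
      obtain ⟨y, hy, rfl⟩ := (Ideal.mem_map_iff_of_surjective _ e.symm.toRingEquiv.surjective).1 hx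
      show π (e (e.symm y)) = 0
      rw [e.apply_symm_apply]
      exact hy

section Nhd

variable {R : Type u} [CommRing R] (I : Ideal R) {A₀ : Type u} [CommRing A₀] [Algebra R A₀]
  [Algebra (R ⧸ I) A₀] [IsScalarTower R (R ⧸ I) A₀]

theorem exists_syntomic_nhd {N d c e : ℕ} {C : Type u} [CommRing C] [Algebra R C]
    (Φ : MvPolynomial (Fin N) R →ₐ[R] C) (hΦ : Function.Surjective Φ) (G : Fin d → MvPolynomial (Fin N) R)
    (hG : RingHom.ker Φ.toRingHom = Ideal.span (Set.range G))
    (ψ : C →ₐ[R] A₀) (hψ : Function.Surjective ψ) (t : Fin c → C) (ht : ∀ i, ψ (t i) = 0) (w : C)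
    (hker : ∀ x, ψ x = 0 → w * x ∈ Ideal.span (Set.range t) ⊔ I.map (algebraMap R C))
    (hN : N = e + d + c) (hdim : FibDimLE (R ⧸ I) (Localization.Away (ψ w)) e)
    (q : Ideal C) [q.IsPrime] (htq : Ideal.span (Set.range t) ⊔ I.map (algebraMap R C) ≤ q) (hwq : w ∉ q) :
    ∃ a : C, a ∉ q ∧
      Synt.IsSyntomic R (Localization.Away (Ideal.Quotient.mk (Ideal.span (Set.range t)) (w * a))) := by
  classical
  let P := MvPolynomial (Fin N) R
  choose tl htl using fun i => hΦ (t i)
  obtain ⟨Hl, hHl⟩ := hΦ w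
  let F : Fin (d + c) → P := Fin.append G tl
  let Frel := CI2.awayRel F Hl
  let red : P →+* MvPolynomial (Fin N) (R ⧸ I) := MvPolynomial.map (Ideal.Quotient.mk I)
  let Fb : Fin (d + c) → MvPolynomial (Fin N) (R ⧸ I) := fun i => red (F i)
  let φb : MvPolynomial (Fin N) (R ⧸ I) →ₐ[R ⧸ I] A₀ := aeval fun i => ψ (Φ (X i))
  have hφb : ∀ x, φb (red x) = ψ (Φ x) := fun x => by
    induction x using MvPolynomial.induction_on with
    | C r =>
      show φb (MvPolynomial.map _ (MvPolynomial.C r)) = _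
      rw [MvPolynomial.map_C, ← MvPolynomial.algebraMap_eq, AlgHom.commutes, ← MvPolynomial.algebraMap_eq,
        AlgHom.commutes, AlgHom.commutes, IsScalarTower.algebraMap_apply R (R ⧸ I) A₀]
      rfl
    | add p q hp hq => simp only [map_add, hp, hq]
    | mul_X p i hp =>
      rw [map_mul, map_mul, map_mul, map_mul, hp]
      congr 1
      show φb (MvPolynomial.map _ (X i)) = _
      rw [MvPolynomial.map_X]
      exact aeval_X _ _
  have hred : Function.Surjective red := MvPolynomial.map_surjective _ Ideal.Quotient.mk_surjective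
  have hGF : ∀ i, Φ (G i) = 0 := fun i => hG.ge (Ideal.subset_span ⟨i, rfl⟩)
  have hΦF : (Ideal.span (Set.range F)).map Φ.toRingHom = Ideal.span (Set.range t) := by
    rw [span_range_append, Ideal.map_sup, ← hG, Ideal.map_span Φ.toRingHom (Set.range tl), ← Set.range_comp]
    rw [show (Φ.toRingHom ∘ tl) = t from funext htl]
    refine sup_eq_right.2 (Ideal.map_le_iff_le_comap.2 fun x hx => ?_)
    show Φ x ∈ Ideal.span (Set.range t)
    rw [show Φ x = 0 from hx]
    exact zero_mem _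
  have hFb : ∀ i, φb (Fb i) = 0 := fun i => by
    rw [hφb]
    refine Fin.addCases (fun i => ?_) (fun j => ?_) i
    · show ψ (Φ (Fin.append G tl (Fin.castAdd c i))) = 0
      rw [Fin.append_left, hGF, map_zero]
    · show ψ (Φ (Fin.append G tl (Fin.natAdd d j))) = 0
      rw [Fin.append_right, htl, ht]
  have hGle : Ideal.span (Set.range G) ≤ Ideal.span (Set.range F) := by
    rw [span_range_append]; exact le_sup_left
  have hpull : ∀ (J : Ideal P), Ideal.span (Set.range G) ≤ J → ∀ x : P, Φ x ∈ J.map Φ.toRingHom → x ∈ J := by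
    intro J hJ x hx
    obtain ⟨y, hy, hyx⟩ := (Ideal.mem_map_iff_of_surjective Φ.toRingHom hΦ).1 hx
    have : x - y ∈ RingHom.ker Φ.toRingHom := by
      rw [RingHom.mem_ker, map_sub, hyx]; exact sub_self _
    exact (sub_add_cancel x y) ▸ add_mem (hJ (hG.le this)) hy
  let πb : Synt.RelGCIRing (R ⧸ I) N (d + c) Fb →ₐ[R ⧸ I] A₀ :=
    Ideal.Quotient.liftₐ _ φb fun x hx => Ideal.span_le (I := RingHom.ker φb.toRingHom) |>.2
      (by rintro _ ⟨i, rfl⟩; exact hFb i) hx
  have hπb : Function.Surjective πb := fun y => by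
    obtain ⟨z, rfl⟩ := hψ y
    obtain ⟨x, rfl⟩ := hΦ z
    exact ⟨Ideal.Quotient.mk _ (red x), hφb x⟩
  have hrelb : Synt.IsRelGCI (R ⧸ I) (N + 1) (d + c + 1) (fun i => MvPolynomial.map (Ideal.Quotient.mk I) (Frel i)) := by
    rw [show (fun i => MvPolynomial.map (Ideal.Quotient.mk I) (Frel i)) = CI2.awayRel Fb (red Hl) from by
      funext i
      refine Fin.lastCases ?_ (fun i => ?_) i
      · simp [Frel, CI2.awayRel, red, MvPolynomial.map_rename]
      · simp [Frel, CI2.awayRel, Fb, red, MvPolynomial.map_rename]]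
    refine isRelGCI_of_fibDimLE (by omega) ?_
    obtain ⟨e1⟩ := CI2.nonempty_away_equiv_of_surjective πb hπb (Ideal.Quotient.mk _ (red Hl)) fun y hy => by
      obtain ⟨y, rfl⟩ := Ideal.Quotient.mk_surjective y
      obtain ⟨x, rfl⟩ := hred y
      refine ⟨1, ?_⟩
      rw [pow_one, ← map_mul, Ideal.Quotient.eq_zero_iff_mem, ← map_mul]
      have h1 : w * Φ x ∈ Ideal.span (Set.range t) ⊔ I.map (algebraMap R C) :=
        hker _ (by rw [← hφb]; exact hy)
      have h2 : Ideal.span (Set.range t) ⊔ I.map (algebraMap R C) =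
          (Ideal.span (Set.range F) ⊔ I.map (algebraMap R P)).map Φ.toRingHom := by
        rw [Ideal.map_sup, hΦF, Ideal.map_map]
        congr 2
        exact Φ.comp_algebraMap.symm
      have h3 : Hl * x ∈ Ideal.span (Set.range F) ⊔ I.map (algebraMap R P) := by
        refine hpull _ (hGle.trans le_sup_left) _ ?_
        rw [← h2, map_mul, hHl]
        exact h1
      have h4 := Ideal.mem_map_of_mem red h3
      rw [Ideal.map_sup, Ideal.map_span, ← Set.range_comp, Ideal.map_map, sup_eq_left.2] at h4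
      · exact h4
      · rw [Ideal.map_le_iff_le_comap]
        intro r hr
        rw [Ideal.mem_comap, RingHom.comp_apply]
        rw [MvPolynomial.algebraMap_eq, MvPolynomial.map_C, Ideal.Quotient.eq_zero_iff_mem.2 hr, map_zero]
        exact zero_mem _
    obtain ⟨e2⟩ := CI2.nonempty_awayEquiv Fb (red Hl)
    have h5 : FibDimLE (R ⧸ I) (Synt.RelGCIRing (R ⧸ I) (N + 1) (d + c + 1) (CI2.awayRel Fb (red Hl))) e := by
      refine fibDimLE_congr (e1.trans e2) ?_
      rwa [show πb (Ideal.Quotient.mk _ (red Hl)) = ψ w from (hφb Hl).trans (congrArg ψ hHl)]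
    rw [show N + 1 - (d + c + 1) = e by omega]
    exact h5
  obtain ⟨h, hh1, hhrel, ⟨eh⟩⟩ := Groth.Agent.S9172.result R (N + 1) (d + c + 1) Frel I hrelb
  let S1 := Synt.RelGCIRing R (N + 1) (d + c + 1) Frel
  let hS : S1 := Ideal.Quotient.mk _ h
  have hsyn : Synt.IsSyntomic R (Localization.Away hS) :=
    CI2.isSyntomic_congr eh.symm (CI2.isSyntomic_of_isRelGCI hhrel)
  -- identify `S1` with a localisation of `C ⧸ (t)`
  let T := C ⧸ Ideal.span (Set.range t)
  let mkT : C →ₐ[R] T := Ideal.Quotient.mkₐ R _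
  let π0 : Synt.RelGCIRing R N (d + c) F →ₐ[R] T :=
    Ideal.Quotient.liftₐ _ (mkT.comp Φ) fun x hx => Ideal.Quotient.eq_zero_iff_mem.2
      (hΦF.le (Ideal.mem_map_of_mem Φ.toRingHom hx))
  have hπ0 : Function.Surjective π0 := fun y => by
    obtain ⟨z, rfl⟩ := Ideal.Quotient.mk_surjective y
    obtain ⟨x, rfl⟩ := hΦ z
    exact ⟨Ideal.Quotient.mk _ x, rfl⟩
  obtain ⟨e3⟩ := CI2.nonempty_away_equiv_of_surjective π0 hπ0 (Ideal.Quotient.mk _ Hl) fun y hy => by
    obtain ⟨x, rfl⟩ := Ideal.Quotient.mk_surjective y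
    refine ⟨0, ?_⟩
    rw [pow_zero, one_mul, Ideal.Quotient.eq_zero_iff_mem]
    refine hpull _ hGle _ ?_
    rw [hΦF]
    exact Ideal.Quotient.eq_zero_iff_mem.1 hy
  obtain ⟨e4⟩ := CI2.nonempty_awayEquiv F Hl
  rw [show π0 (Ideal.Quotient.mk _ Hl) = mkT w from congrArg mkT hHl] at e3
  let W := Localization.Away (mkT w)
  let E : S1 ≃ₐ[R] W := (e3.trans e4).symm
  let h' : W := E hS
  have hW : Synt.IsSyntomic R (Localization.Away h') := by
    obtain ⟨e5⟩ := CI2.nonempty_away_equiv_of_surjective E.toAlgHom E.surjective hS fun y hy =>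
      ⟨0, by rw [pow_zero, one_mul]; exact E.injective (hy.trans (map_zero E).symm)⟩
    exact CI2.isSyntomic_congr e5.symm hsyn
  have hh' : h' - 1 ∈ I.map (algebraMap R W) := by
    have h1 : hS - 1 ∈ I.map (algebraMap R S1) := Ideal.Quotient.eq.1 (hh1.trans (map_one _).symm)
    have h2 := Ideal.mem_map_of_mem E.toAlgHom.toRingHom h1
    rw [Ideal.map_map, show E.toAlgHom.toRingHom.comp (algebraMap R S1) = algebraMap R W from
      E.toAlgHom.comp_algebraMap, map_sub, map_one] at h2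
    exact h2
  let s := IsLocalization.Away.sec (mkT w) h'
  obtain ⟨a, ha⟩ := Ideal.Quotient.mk_surjective s.1
  have hassoc : Associated (algebraMap T W s.1) h' := IsLocalization.Away.associated_sec_fst (mkT w) h'
  haveI : IsLocalization.Away (algebraMap T W s.1) (Localization.Away h') :=
    IsLocalization.Away.of_associated hassoc.symm
  haveI : IsLocalization.Away (mkT w * s.1) (Localization.Away h') :=
    IsLocalization.Away.mul' W (Localization.Away h') (mkT w) s.1
  refine ⟨a, fun haq => ?_, ?_⟩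
  · let qT : Ideal T := q.map (Ideal.Quotient.mk _)
    haveI : qT.IsPrime := Ideal.map_isPrime_of_surjective Ideal.Quotient.mk_surjective
      (by rw [Ideal.mk_ker]; exact le_sup_left.trans htq)
    have hqT : ∀ x : C, mkT x ∈ qT → x ∈ q := fun x hx => by
      have : x ∈ qT.comap (Ideal.Quotient.mk (Ideal.span (Set.range t))) := hx
      rwa [Ideal.comap_map_of_surjective _ Ideal.Quotient.mk_surjective, ← RingHom.ker_eq_comap_bot, Ideal.mk_ker,
        sup_eq_left.2 (le_sup_left.trans htq)] at this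
    have hdis : Disjoint (Submonoid.powers (mkT w) : Set T) qT := by
      rw [Ideal.disjoint_powers_iff_notMem_of_isPrime]
      exact fun hm => hwq (hqT _ hm)
    haveI hz : (qT.map (algebraMap T W)).IsPrime :=
      IsLocalization.isPrime_of_isPrime_disjoint (Submonoid.powers (mkT w)) W qT inferInstance hdis
    have hI : I.map (algebraMap R W) ≤ qT.map (algebraMap T W) := by
      rw [IsScalarTower.algebraMap_eq R T W, ← Ideal.map_map]
      refine Ideal.map_mono (Ideal.map_le_iff_le_comap.2 fun r hr => ?_)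
      show algebraMap R T r ∈ qT
      rw [IsScalarTower.algebraMap_apply R C T]
      exact Ideal.mem_map_of_mem _ (htq (Submodule.mem_sup_right (Ideal.mem_map_of_mem _ hr)))
    have h0 : algebraMap T W s.1 ∈ qT.map (algebraMap T W) :=
      Ideal.mem_map_of_mem _ (by rw [← ha]; exact Ideal.mem_map_of_mem _ haq)
    have h1 : h' ∈ qT.map (algebraMap T W) := (Ideal.mem_iff_of_associated hassoc).1 h0
    exact hz.ne_top ((Ideal.eq_top_iff_one _).2 (by
      rw [show (1 : W) = h' - (h' - 1) by ring]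
      exact sub_mem h1 (hI hh')))
  · rw [map_mul, ha]
    exact CI2.isSyntomic_congr
      ((IsLocalization.algEquiv (Submonoid.powers (mkT w * s.1)) (Localization.Away h')
        (Localization.Away (mkT w * s.1))).restrictScalars R) hW

end Nhd

theorem exists_good_nhd {R A₀ : Type u} [CommRing R] (I : Ideal R) [CommRing A₀]
    [Algebra (R ⧸ I) A₀] [Algebra R A₀] [IsScalarTower R (R ⧸ I) A₀] (h : Synt.IsSyntomic (R ⧸ I) A₀)
    {n m : ℕ} (φb : MvPolynomial (Fin n) (R ⧸ I) →ₐ[R ⧸ I] A₀) (hφb : Function.Surjective φb)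
    (fb : Fin m → MvPolynomial (Fin n) (R ⧸ I)) (hfb : Ideal.span (Set.range fb) = RingHom.ker φb.toRingHom)
    (Eb : Matrix (Fin m) (Fin m) (MvPolynomial (Fin n) (R ⧸ I)))
    (hE3 : ∀ v : Fin m → MvPolynomial (Fin n) (R ⧸ I), v ⬝ᵥ fb = 0 → ∀ j, φb ((v ᵥ* Eb) j) = 0)
    (E : Matrix (Fin m) (Fin m) (MvPolynomial (Fin n) R))
    (hEb : E.map (MvPolynomial.map (Ideal.Quotient.mk I)) = Eb)
    {C : Type u} [CommRing C] [Algebra (MvPolynomial (Fin n) R) C] [Algebra R C]
    [IsScalarTower R (MvPolynomial (Fin n) R) C]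
    {N k : ℕ} (hN : N = n + k) (Φ : MvPolynomial (Fin N) R →ₐ[R] C) (hΦ : Function.Surjective Φ)
    (G : Fin k → MvPolynomial (Fin N) R) (hG : RingHom.ker Φ.toRingHom = Ideal.span (Set.range G))
    (ψ : C →ₐ[R] A₀) (hψ : Function.Surjective ψ)
    (hψP : ∀ x, ψ (algebraMap (MvPolynomial (Fin n) R) C x) = φb (MvPolynomial.map (Ideal.Quotient.mk I) x))
    (P' : Matrix (Fin m) (Fin m) C) (hψP' : ∀ i j, ψ (P' i j) = φb (MvPolynomial.map (Ideal.Quotient.mk I) (E i j)))
    (qv : Fin m → C) (hPq : P' *ᵥ qv = qv) (hψq : ∀ l, ψ (qv l) = 0)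
    (u : C) (hψu : ψ u = 1)
    (huK : ∀ x, ψ x = 0 → u * x ∈ Ideal.span (Set.range qv) ⊔ I.map (algebraMap R C))
    (z : PrimeSpectrum (C ⧸ Ideal.span (Set.range qv)))
    (hIz : I.map (algebraMap R (C ⧸ Ideal.span (Set.range qv))) ≤ z.asIdeal)
    (huz : Ideal.Quotient.mk (Ideal.span (Set.range qv)) u ∉ z.asIdeal) :
    ∃ g : C ⧸ Ideal.span (Set.range qv), Synt.IsSyntomic R (Localization.Away g) ∧ g ∉ z.asIdeal := by
  classical
  let P := MvPolynomial (Fin n) R
  let red : P →+* MvPolynomial (Fin n) (R ⧸ I) := MvPolynomial.map (Ideal.Quotient.mk I)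
  have hred : Function.Surjective red := MvPolynomial.map_surjective _ Ideal.Quotient.mk_surjective
  let Q : Ideal C := Ideal.span (Set.range qv)
  let IC : Ideal C := I.map (algebraMap R C)
  let T := C ⧸ Q
  let mkT : C →ₐ[R] T := Ideal.Quotient.mkₐ R Q
  let KC : Ideal C := RingHom.ker ψ.toRingHom
  have hkerψ : RingHom.ker ψ.toRingHom = KC := rfl
  have hITC : IC.map mkT.toRingHom = I.map (algebraMap R T) := by
    show (I.map (algebraMap R C)).map mkT.toRingHom = _
    rw [Ideal.map_map]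
    rw [show mkT.toRingHom.comp (algebraMap R C) = algebraMap R T from mkT.comp_algebraMap]
  have hQK : Q ≤ KC := Ideal.span_le.2 (by rintro _ ⟨l, rfl⟩; exact hψq l)
  let q : Ideal C := z.asIdeal.comap mkT
  haveI : q.IsPrime := Ideal.IsPrime.comap _
  have hQq : Q ≤ q := fun x hx => by
    show mkT x ∈ z.asIdeal
    rw [show mkT x = 0 from Ideal.Quotient.eq_zero_iff_mem.2 hx]
    exact zero_mem _
  have hIq : IC ≤ q := fun x hx => hIz (hITC ▸ Ideal.mem_map_of_mem _ hx)
  have hKq : KC ≤ q := fun x hx => ((inferInstance : q.IsPrime).mem_or_mem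
    (sup_le hQq hIq (huK x hx))).resolve_left huz
  let q₀ : Ideal A₀ := q.map ψ.toRingHom
  haveI : q₀.IsPrime := Ideal.map_isPrime_of_surjective hψ (hkerψ.le.trans hKq)
  have hq₀ : ∀ x, ψ x ∈ q₀ → x ∈ q := fun x hx => by
    have : x ∈ q₀.comap ψ.toRingHom := hx
    rwa [Ideal.comap_map_of_surjective ψ.toRingHom hψ, ← RingHom.ker_eq_comap_bot,
      sup_eq_left.2 (hkerψ.le.trans hKq)] at this
  obtain ⟨Hb, c, ab, bb, hHb, hcn, hdim, hW0, hW1⟩ :=
    exists_matrix_frame h φb hφb fb hfb Eb hE3 ⟨q₀, inferInstance⟩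
  obtain ⟨H, hH⟩ := hred Hb
  choose a' ha' using fun i j => hred (ab i j)
  choose b' hb' using fun i j => hred (bb i j)
  let a : Matrix (Fin c) (Fin m) P := Matrix.of a'
  let b : Matrix (Fin m) (Fin c) P := Matrix.of b'
  let W : Matrix (Fin m) (Fin m) P := H • (1 : Matrix (Fin m) (Fin m) P) - b * a
  have hWb : W.map red = Hb • (1 : Matrix (Fin m) (Fin m) (MvPolynomial (Fin n) (R ⧸ I))) - bb * ab := by
    show (H • (1 : Matrix (Fin m) (Fin m) P) - b * a).map red = _
    rw [Matrix.map_sub _ (map_sub red), Matrix.map_mul,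
      show b.map red = bb from Matrix.ext hb', show a.map red = ab from Matrix.ext ha',
      Matrix.map_smul' _ _ _ (map_mul red), hH, Matrix.map_one _ (map_zero red) (map_one red)]
  let W' : Matrix (Fin m) (Fin m) C := W.map (algebraMap P C)
  let HC : C := algebraMap P C H
  let M : Matrix (Fin m) (Fin m) C := W' * P'
  let t : Fin c → C := (a.map (algebraMap P C)) *ᵥ qv
  let Dm : Matrix (Fin m) (Fin m) C := HC • (1 : Matrix (Fin m) (Fin m) C) - M
  have hψM : ∀ i j, ψ (M i j) = 0 := fun i j => by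
    show ψ (∑ l, W' i l * P' l j) = 0
    rw [map_sum]
    refine (Finset.sum_congr rfl fun l _ => show ψ (W' i l * P' l j) = φb (red (W i l * E l j)) from ?_).trans ?_
    · rw [map_mul, map_mul, map_mul, hψP']
      exact congrArg (· * φb (red (E l j))) (hψP (W i l))
    rw [← map_sum, ← map_sum]
    show φb (red ((W * E) i j)) = 0
    rw [show red ((W * E) i j) = (W * E).map red i j from rfl, Matrix.map_mul, hWb, hEb]
    exact hW1 i j
  have hDq : Dm *ᵥ qv = (b.map (algebraMap P C)) *ᵥ t := by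
    show _ = (b.map (algebraMap P C)) *ᵥ ((a.map (algebraMap P C)) *ᵥ qv)
    rw [Matrix.sub_mulVec, ← Matrix.mulVec_mulVec, hPq, Matrix.smul_mulVec, Matrix.one_mulVec,
      Matrix.mulVec_mulVec, ← Matrix.map_mul]
    show HC • qv - (H • (1 : Matrix (Fin m) (Fin m) P) - b * a).map (algebraMap P C) *ᵥ qv = _
    rw [Matrix.map_sub _ (map_sub (algebraMap P C)), Matrix.map_smul' _ _ _ (map_mul (algebraMap P C)),
      Matrix.map_one _ (map_zero _) (map_one _), Matrix.sub_mulVec, Matrix.smul_mulVec, Matrix.one_mulVec,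
      sub_sub_cancel]
  have hdet : ∀ x ∈ Q, Dm.det * x ∈ Ideal.span (Set.range t) := by
    intro x hx
    refine (Ideal.span_le (I := Submodule.comap (LinearMap.mulLeft C Dm.det) (Ideal.span (Set.range t)))).2 ?_ hx
    rintro _ ⟨l, rfl⟩
    show Dm.det * qv l ∈ Ideal.span (Set.range t)
    have e : Dm.adjugate *ᵥ (Dm *ᵥ qv) = Dm.det • qv := by
      rw [Matrix.mulVec_mulVec, Matrix.adjugate_mul, Matrix.smul_mulVec, Matrix.one_mulVec]
    have e1 : Dm.det * qv l = (Dm.adjugate *ᵥ ((b.map (algebraMap P C)) *ᵥ t)) l := by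
      rw [← hDq, e]; rfl
    rw [e1, Matrix.mulVec_mulVec]
    simp only [Matrix.mulVec, dotProduct]
    exact sum_mem fun j _ => Ideal.mul_mem_left _ _ (Ideal.subset_span ⟨j, rfl⟩)
  have hψdet : ψ Dm.det = φb Hb ^ m := by
    show ψ.toRingHom Dm.det = _
    rw [RingHom.map_det, show ψ.toRingHom.mapMatrix Dm = φb Hb • (1 : Matrix (Fin m) (Fin m) A₀) from ?_,
      Matrix.det_smul, Matrix.det_one, mul_one, Fintype.card_fin]
    ext i j
    show ψ (HC * (1 : Matrix (Fin m) (Fin m) C) i j - M i j) = φb Hb * (1 : Matrix (Fin m) (Fin m) A₀) i j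
    rw [map_sub, hψM, sub_zero, map_mul, hψP, hH, Matrix.one_apply, Matrix.one_apply, apply_ite ψ,
      map_one, map_zero]
  let w : C := u * HC * Dm.det
  have hψw : ψ w = φb Hb * φb Hb ^ m := by
    rw [map_mul, map_mul, hψu, one_mul, hψP, hH, hψdet]
  have hwq : w ∉ q := fun hm => by
    have h0 : ψ w ∈ q₀ := Ideal.mem_map_of_mem ψ.toRingHom hm
    rw [hψw, ← pow_succ'] at h0
    exact hHb ((inferInstance : q₀.IsPrime).mem_of_pow_mem _ h0)
  have htQ : Ideal.span (Set.range t) ≤ Q := by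
    refine Ideal.span_le.2 ?_
    rintro _ ⟨i, rfl⟩
    show ((a.map (algebraMap P C)) *ᵥ qv) i ∈ Q
    simp only [Matrix.mulVec, dotProduct]
    exact sum_mem fun j _ => Ideal.mul_mem_left _ _ (Ideal.subset_span ⟨j, rfl⟩)
  obtain ⟨a₁, ha₁, hsyn⟩ := exists_syntomic_nhd I Φ hΦ G hG ψ hψ t
    (fun i => hkerψ.ge (hQK (htQ (Ideal.subset_span ⟨i, rfl⟩)))) w (fun x hx => by
      obtain ⟨y, hy, z, hz, hyz⟩ := Submodule.mem_sup.1 (huK x (hkerψ.le hx))
      rw [show w * x = HC * (Dm.det * y) + HC * Dm.det * z from by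
        show u * HC * Dm.det * x = _
        linear_combination (HC * Dm.det) * hyz.symm]
      exact add_mem (Submodule.mem_sup_left (Ideal.mul_mem_left _ _ (hdet y hy)))
        (Submodule.mem_sup_right (Ideal.mul_mem_left _ _ hz)))
    (e := n - c) (by omega) (hψw ▸ fibDimLE_away_mul (φb Hb) (φb Hb ^ m) hdim)
    q (sup_le (htQ.trans hQq) hIq) hwq
  let πQ : (C ⧸ Ideal.span (Set.range t)) →ₐ[R] T :=
    Ideal.Quotient.liftₐ _ mkT fun x hx => Ideal.Quotient.eq_zero_iff_mem.2 (htQ hx)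
  have hπQ : Function.Surjective πQ := fun y => by
    obtain ⟨x, rfl⟩ := Ideal.Quotient.mk_surjective y
    exact ⟨Ideal.Quotient.mk _ x, rfl⟩
  obtain ⟨eQ⟩ := CI2.nonempty_away_equiv_of_surjective πQ hπQ (Ideal.Quotient.mk _ (w * a₁)) fun y hy => by
    obtain ⟨x, rfl⟩ := Ideal.Quotient.mk_surjective y
    refine ⟨1, ?_⟩
    rw [pow_one, ← map_mul, Ideal.Quotient.eq_zero_iff_mem,
      show w * a₁ * x = u * HC * a₁ * (Dm.det * x) by simp only [w]; ring]
    exact Ideal.mul_mem_left _ _ (hdet x (Ideal.Quotient.eq_zero_iff_mem.1 hy))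
  exact ⟨mkT (w * a₁), CI2.isSyntomic_congr eQ.symm hsyn,
    (inferInstance : q.IsPrime).mul_notMem hwq ha₁⟩

theorem exists_lift_of_good {R A₀ T : Type u} [CommRing R] (I : Ideal R) [CommRing A₀]
    [Algebra (R ⧸ I) A₀] [Algebra R A₀] [IsScalarTower R (R ⧸ I) A₀] [CommRing T] [Algebra R T]
    (π₁ : T →ₐ[R] A₀) (hπ₁ : Function.Surjective π₁) (ut : T) (hπu : π₁ ut = 1)
    (hker₁ : ∀ x, π₁ x = 0 → ut * x ∈ I.map (algebraMap R T))
    (hgood : ∀ z : PrimeSpectrum T, I.map (algebraMap R T) ≤ z.asIdeal → ut ∉ z.asIdeal →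
      ∃ g : T, Synt.IsSyntomic R (Localization.Away g) ∧ g ∉ z.asIdeal) :
    ∃ (A : Type u) (_ : CommRing A) (_ : Algebra R A), Synt.IsSyntomic R A ∧
      Nonempty ((A ⧸ I.map (algebraMap R A)) ≃ₐ[R ⧸ I] A₀) := by
  let IT : Ideal T := I.map (algebraMap R T)
  let good : Set T := {g | Synt.IsSyntomic R (Localization.Away g)}
  -- globalise
  have hrad : ut ∈ (Ideal.span good ⊔ IT).radical := by
    rw [Ideal.radical_eq_sInf, Ideal.mem_sInf]
    rintro z ⟨hle, hz⟩
    by_contra hne
    obtain ⟨g, hg, hgz⟩ := hgood ⟨z, hz⟩ (le_sup_right.trans hle) hne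
    exact hgz (hle (Submodule.mem_sup_left (Ideal.subset_span hg)))
  obtain ⟨r, hr⟩ := hrad
  obtain ⟨a, ha, b, hb, hab⟩ := Submodule.mem_sup.1 hr
  let v : T := a * ut
  let A := Localization.Away v
  have hIT : IT ≤ RingHom.ker π₁.toRingHom := Ideal.map_le_iff_le_comap.2 fun x hx => by
    show π₁ (algebraMap R T x) = 0
    rw [π₁.commutes, IsScalarTower.algebraMap_apply R (R ⧸ I) A₀, Ideal.Quotient.algebraMap_eq,
      Ideal.Quotient.eq_zero_iff_mem.2 hx, map_zero]
  have hπa : π₁ a = 1 := by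
    have h1 := congrArg π₁ hab
    rw [map_add, map_pow, hπu, one_pow, show π₁ b = 0 from hIT hb, add_zero] at h1
    exact h1
  obtain ⟨π', hπ'surj, -, hker'⟩ := SmoothLiftH7.exists_away_lift π₁ hπ₁ IT (fun x hx => hIT hx) v
    (by rw [map_mul, hπa, hπu, one_mul]; exact isUnit_one) (fun x hx => by
      refine ⟨1, ?_⟩
      rw [pow_one, show v * x = a * (ut * x) from mul_assoc _ _ _]
      exact IT.mul_mem_left _ (hker₁ x hx))
  have hIA : RingHom.ker π'.toRingHom = I.map (algebraMap R A) := by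
    rw [IsScalarTower.algebraMap_eq R T A, ← Ideal.map_map]
    exact hker'
  refine ⟨A, inferInstance, inferInstance, ?_, ?_⟩
  · refine CI2.isSyntomic_of_span (algebraMap T A '' good) ?_ ?_
    · rw [← Ideal.map_span, Ideal.eq_top_iff_one]
      obtain ⟨y, hy⟩ := (IsLocalization.Away.algebraMap_isUnit (S := A) v).exists_left_inv
      have hmem : algebraMap T A v ∈ (Ideal.span good).map (algebraMap T A) :=
        Ideal.mem_map_of_mem _ (Ideal.mul_mem_right _ _ ha)
      exact (Ideal.eq_top_of_isUnit_mem _ hmem (IsLocalization.Away.algebraMap_isUnit v)) ▸ Submodule.mem_top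
    · rintro _ ⟨g, hg, rfl⟩
      obtain ⟨e⟩ := nonempty_away_mul (R := R) v g
      refine CI2.isSyntomic_congr e.symm ?_
      rw [mul_comm]
      exact isSyntomic_away_mul g v hg
  · exact ⟨AlgEquiv.extendScalarsOfSurjective Ideal.Quotient.mk_surjective
      ((Ideal.quotientEquivAlgOfEq R hIA.symm).trans (Ideal.quotientKerAlgEquivOfSurjective hπ'surj))⟩


theorem exists_syntomic_lift_quotient {R A₀ : Type u} [CommRing R] (I : Ideal R) [CommRing A₀]
    [Algebra (R ⧸ I) A₀] (h : Synt.IsSyntomic (R ⧸ I) A₀) :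
    ∃ (A : Type u) (_ : CommRing A) (_ : Algebra R A), Synt.IsSyntomic R A ∧
      Nonempty ((A ⧸ I.map (algebraMap R A)) ≃ₐ[R ⧸ I] A₀) := by
  classical
  letI : Algebra R A₀ := Algebra.compHom A₀ (Ideal.Quotient.mk I)
  haveI : IsScalarTower R (R ⧸ I) A₀ := IsScalarTower.of_algebraMap_eq' rfl
  -- presentation
  obtain ⟨n, φb, hφb, hfgb⟩ := h.2.1.out
  obtain ⟨m, fb, hfb⟩ := Submodule.fg_iff_exists_fin_generating_family.1 hfgb
  obtain ⟨Eb, hE1, hE2, hE3⟩ := exists_idem_matrix h φb hφb fb hfb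
  let P := MvPolynomial (Fin n) R
  let red : P →+* MvPolynomial (Fin n) (R ⧸ I) := MvPolynomial.map (Ideal.Quotient.mk I)
  have hred : Function.Surjective red := MvPolynomial.map_surjective _ Ideal.Quotient.mk_surjective
  have hkred : RingHom.ker red = I.map (algebraMap R P) := by
    rw [MvPolynomial.ker_map, Ideal.mk_ker, ← MvPolynomial.algebraMap_eq]
  let φ : P →ₐ[R] A₀ :=
    { toRingHom := φb.toRingHom.comp red
      commutes' := fun r => by
        show φb (red (MvPolynomial.C r)) = _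
        rw [MvPolynomial.map_C, ← MvPolynomial.algebraMap_eq, AlgHom.commutes,
          IsScalarTower.algebraMap_apply R (R ⧸ I) A₀, Ideal.Quotient.algebraMap_eq] }
  have hφeq : ∀ x, φ x = φb (red x) := fun x => rfl
  choose f hf using fun l => hred (fb l)
  choose Em hEm using fun i j => hred (Eb i j)
  let E : Matrix (Fin m) (Fin m) P := Matrix.of Em
  have hEb : E.map red = Eb := Matrix.ext hEm
  have hfb' : red ∘ f = fb := funext hf
  let K : Ideal P := RingHom.ker φ.toRingHom
  have hφ : Function.Surjective φ := hφb.comp hred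
  have hfK : ∀ l, φ (f l) = 0 := fun l => by
    rw [hφeq, hf]; exact hfb.le (Ideal.subset_span ⟨l, rfl⟩)
  have hIK : I.map (algebraMap R P) ≤ K := fun x hx => by
    rw [← hkred] at hx
    show φb (red x) = 0
    rw [RingHom.mem_ker.1 hx, map_zero]
  have hK : K = I.map (algebraMap R P) ⊔ Ideal.span (Set.range f) := by
    refine le_antisymm (fun x hx => ?_) (sup_le hIK (Ideal.span_le.2 (by rintro _ ⟨l, rfl⟩; exact hfK l)))
    have h1 : red x ∈ (Ideal.span (Set.range f)).map red := by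
      rw [Ideal.map_span, ← Set.range_comp, hfb']
      exact hfb.ge hx
    have h2 : x ∈ ((Ideal.span (Set.range f)).map red).comap red := h1
    rwa [Ideal.comap_map_of_surjective _ hred, ← RingHom.ker_eq_comap_bot, hkred, sup_comm] at h2
  have hEK : ∀ i j, (E * E - E) i j ∈ K := fun i j => by
    show φb (red ((E * E - E) i j)) = 0
    rw [show red ((E * E - E) i j) = (E * E - E).map red i j from rfl, Matrix.map_sub _ (map_sub red),
      Matrix.map_mul, hEb]
    exact hE1 i j
  -- étale neighbourhood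
  obtain ⟨C, _, _, _, φC, hkerC, P', hP', hPE⟩ := SmoothLiftH7.exists_etale_idempotent_lift K E hEK
  letI : Algebra R C := Algebra.compHom C (algebraMap R P)
  haveI : IsScalarTower R P C := IsScalarTower.of_algebraMap_eq' rfl
  let ψ : C →ₐ[R] A₀ := (Ideal.Quotient.liftₐ K φ fun x hx => hx).comp (φC.restrictScalars R)
  have hψP : ∀ x, ψ (algebraMap P C x) = φ x := fun x => by
    show Ideal.Quotient.liftₐ K φ (fun x hx => hx) (φC (algebraMap P C x)) = φ x
    rw [AlgHom.commutes, Ideal.Quotient.algebraMap_eq]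
    rfl
  have hψ : Function.Surjective ψ := fun a => by
    obtain ⟨x, rfl⟩ := hφ a
    exact ⟨algebraMap P C x, hψP x⟩
  let KC : Ideal C := K.map (algebraMap P C)
  have hkerψ : RingHom.ker ψ.toRingHom = KC := by
    show _ = K.map (algebraMap P C)
    rw [← hkerC]
    ext x
    obtain ⟨b, hb⟩ := Ideal.Quotient.mk_surjective (φC x)
    rw [RingHom.mem_ker, RingHom.mem_ker, ← hb, Ideal.Quotient.eq_zero_iff_mem]
    show Ideal.Quotient.liftₐ K φ (fun x hx => hx) (φC x) = 0 ↔ _
    rw [← hb]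
    rfl
  have hψP' : ∀ i j, ψ (P' i j) = φ (E i j) := fun i j => by
    rw [← hψP, ← sub_eq_zero, ← map_sub]
    exact hkerψ.ge (hPE i j)
  let fC : Fin m → C := algebraMap P C ∘ f
  let qv : Fin m → C := P' *ᵥ fC
  let Q : Ideal C := Ideal.span (Set.range qv)
  let IC : Ideal C := I.map (algebraMap R C)
  have hIC : (I.map (algebraMap R P)).map (algebraMap P C) = IC := by
    rw [Ideal.map_map, ← IsScalarTower.algebraMap_eq]
  have hKC : KC = IC ⊔ Ideal.span (Set.range fC) := by
    show K.map _ = _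
    rw [hK, Ideal.map_sup, hIC, Ideal.map_span, ← Set.range_comp]
  have hfC : ∀ l, fC l ∈ KC := fun l => Ideal.mem_map_of_mem _ (hfK l)
  have hψq : ∀ l, ψ (qv l) = 0 := fun l => by
    show ψ (∑ j, P' l j * fC j) = 0
    rw [map_sum]
    refine Finset.sum_eq_zero fun j _ => ?_
    rw [map_mul, show ψ (fC j) = 0 from (hψP _).trans (hfK j), mul_zero]
  have hQK : Q ≤ KC := by
    rw [← hkerψ]
    exact Ideal.span_le.2 (by rintro _ ⟨l, rfl⟩; exact hψq l)
  -- Nakayama
  have hnak : KC ≤ KC * KC ⊔ (Q ⊔ IC) := by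
    refine hKC.le.trans (sup_le (le_trans le_sup_right le_sup_right) (Ideal.span_le.2 ?_))
    rintro _ ⟨l, rfl⟩
    have h1 : f l - (E *ᵥ f) l ∈ K * K ⊔ I.map (algebraMap R P) := by
      have h2 : red (f l - (E *ᵥ f) l) ∈ (K * K).map red := by
        rw [map_sub, hf, RingHom.map_mulVec, hEb, hfb', Ideal.map_mul]
        refine Ideal.mul_mono ?_ ?_ (hE2 l) <;>
        · intro y hy
          obtain ⟨x, rfl⟩ := hred y
          exact Ideal.mem_map_of_mem red (show x ∈ K from hy)
      have h3 : f l - (E *ᵥ f) l ∈ ((K * K).map red).comap red := h2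
      rwa [Ideal.comap_map_of_surjective _ hred, ← RingHom.ker_eq_comap_bot, hkred] at h3
    have h4 : algebraMap P C (f l - (E *ᵥ f) l) ∈ KC * KC ⊔ IC := by
      have := Ideal.mem_map_of_mem (algebraMap P C) h1
      rwa [Ideal.map_sup, Ideal.map_mul, hIC] at this
    have e : fC l = algebraMap P C (f l - (E *ᵥ f) l) + ((E.map (algebraMap P C) - P') *ᵥ fC) l + qv l := by
      rw [map_sub, RingHom.map_mulVec, Matrix.sub_mulVec, Pi.sub_apply]
      show fC l = fC l - ((E.map (algebraMap P C)) *ᵥ fC) l + (((E.map (algebraMap P C)) *ᵥ fC) l - qv l) + qv l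
      ring
    rw [SetLike.mem_coe, e]
    refine add_mem (add_mem ?_ ?_) (Submodule.mem_sup_right (Submodule.mem_sup_left (Ideal.subset_span ⟨l, rfl⟩)))
    · exact (sup_le_sup le_rfl le_sup_right : KC * KC ⊔ IC ≤ KC * KC ⊔ (Q ⊔ IC)) h4
    · refine Submodule.mem_sup_left ?_
      simp only [Matrix.mulVec, dotProduct]
      refine sum_mem fun j _ => Ideal.mul_mem_mul ?_ (hfC j)
      rw [Matrix.sub_apply, Matrix.map_apply, ← neg_sub]
      exact neg_mem (hPE l j)
  let D : Ideal C := Ideal.span (Set.range fC)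
  obtain ⟨hDle, hDK⟩ := nakayama_aux IC D Q KC hKC hQK hnak
  obtain ⟨u, hu, huK⟩ := SmoothLiftH7.exists_sub_one_mem_mul_mem D (Q ⊔ IC)
    (Submodule.fg_span (Set.finite_range _)) hDle
  rw [hDK] at hu huK
  have hψu : ψ u = 1 := by
    rw [← sub_eq_zero, ← map_one ψ, ← map_sub]
    exact hkerψ.ge hu
  obtain ⟨k, Φ, G, hΦ, hG⟩ := exists_presentation_etale (R := R) (n := n) C
  have hPq : P' *ᵥ qv = qv := by
    show P' *ᵥ (P' *ᵥ fC) = P' *ᵥ fC
    rw [Matrix.mulVec_mulVec, hP']
  let π₁ : (C ⧸ Q) →ₐ[R] A₀ := Ideal.Quotient.liftₐ Q ψ fun x hx => hkerψ.ge (hQK hx)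
  refine exists_lift_of_good I π₁ (fun y => ?_) (Ideal.Quotient.mk Q u) hψu (fun y hy => ?_) (fun z hIz huz => ?_)
  · obtain ⟨x, rfl⟩ := hψ y
    exact ⟨Ideal.Quotient.mk Q x, rfl⟩
  · obtain ⟨x, rfl⟩ := Ideal.Quotient.mk_surjective y
    have h1 := Ideal.mem_map_of_mem (Ideal.Quotient.mk Q) (huK x (hkerψ.le hy))
    rw [Ideal.map_sup, Ideal.map_quotient_self, bot_sup_eq, Ideal.map_map] at h1
    rw [← map_mul]
    exact h1
  · exact exists_good_nhd I h φb hφb fb hfb Eb hE3 E hEb rfl Φ hΦ G hG ψ hψ hψP P' hψP' qv hPq hψq u hψu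
      (fun x hx => huK x (hkerψ.le hx)) z hIz huz

end Groth.Agent.SyntLift3
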