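import Groth.Agent.Lib.SyntLift3.Frame
import Mathlib

/-!
# A syntomic algebra is a retract of a smooth algebra over it which is a relative global
# complete intersection over the base
-/

set_option autoImplicit false
set_option linter.style.haveILetI false
universe u

open Matrix MvPolynomial

namespace Groth.Agent.SyntLift3

theorem mulVec_mem {B : Type u} [CommRing B] {a b : ℕ} {I : Ideal B} (M : Matrix (Fin a) (Fin b) B)
    {v : Fin b → B} (hv : ∀ j, v j ∈ I) (l : Fin a) : (M *ᵥ v) l ∈ I := by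
  simp only [Matrix.mulVec, dotProduct]
  exact sum_mem fun j _ => I.mul_mem_left _ (hv j)

variable {R A : Type u} [CommRing R] [CommRing A] [Algebra R A] {n m : ℕ}

section Space

variable (φ : MvPolynomial (Fin n) R →ₐ[R] A) (f : Fin m → MvPolynomial (Fin n) R)
  (E : Matrix (Fin m) (Fin m) (MvPolynomial (Fin n) R))

/-- Inclusion of the base coordinates. -/
noncomputable abbrev inclX : MvPolynomial (Fin n) R →ₐ[R] MvPolynomial (Fin (n + m)) R :=
  rename (Fin.castAdd m)

/-- The fibre coordinates. -/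
noncomputable abbrev yVar : Fin m → MvPolynomial (Fin (n + m)) R := fun j => X (Fin.natAdd n j)

/-- `(1 - E) y`. -/
noncomputable def hRel : Fin m → MvPolynomial (Fin (n + m)) R := fun l =>
  yVar l - ((E.map (inclX (m := m))) *ᵥ yVar) l

/-- The ideal of the total space of the conormal bundle. -/
noncomputable def totIdeal : Ideal (MvPolynomial (Fin (n + m)) R) :=
  Ideal.span (Set.range fun l => inclX (f l)) ⊔ Ideal.span (Set.range (hRel E))

/-- The relations `f + (1 - E) y`. -/
noncomputable def gRel : Fin m → MvPolynomial (Fin (n + m)) R := fun l => inclX (f l) + hRel E l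

/-- The ideal of the zero section. -/
noncomputable def zeroIdeal : Ideal (MvPolynomial (Fin (n + m)) R) :=
  Ideal.span (Set.range fun l => inclX (f l)) ⊔ Ideal.span (Set.range yVar)

theorem inclX_mem_tot {x : MvPolynomial (Fin n) R} (hx : x ∈ Ideal.span (Set.range f)) :
    inclX x ∈ totIdeal f E := by
  refine Submodule.mem_sup_left ?_
  have := Ideal.mem_map_of_mem (inclX (m := m) : MvPolynomial (Fin n) R →ₐ[R] MvPolynomial (Fin (n + m)) R).toRingHom hx
  rw [Ideal.map_span, ← Set.range_comp] at this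
  exact this

theorem tot_le_zero : totIdeal f E ≤ zeroIdeal (m := m) f := by
  refine sup_le le_sup_left (Ideal.span_le.2 ?_)
  rintro _ ⟨l, rfl⟩
  exact Submodule.mem_sup_right (sub_mem (Ideal.subset_span (Set.mem_range_self l))
    (mulVec_mem _ (fun j => Ideal.subset_span (Set.mem_range_self j)) l))

theorem gRel_le_tot : Ideal.span (Set.range (gRel f E)) ≤ totIdeal f E := by
  refine Ideal.span_le.2 ?_
  rintro _ ⟨l, rfl⟩
  exact add_mem (Submodule.mem_sup_left (Ideal.subset_span ⟨l, rfl⟩))
    (Submodule.mem_sup_right (Ideal.subset_span ⟨l, rfl⟩))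

variable {f E} {φ}

theorem exists_sub_one_mem_mul_mem (hf : Ideal.span (Set.range f) = RingHom.ker φ.toRingHom)
    (h1 : ∀ i j, φ ((E * E - E) i j) = 0)
    (h2 : ∀ l, f l - (E *ᵥ f) l ∈ RingHom.ker φ.toRingHom * RingHom.ker φ.toRingHom) :
    ∃ u : MvPolynomial (Fin (n + m)) R, u - 1 ∈ zeroIdeal f ∧
      ∀ x ∈ totIdeal f E, u * x ∈ Ideal.span (Set.range (gRel f E)) := by
  let G := Ideal.span (Set.range (gRel f E))
  let K := totIdeal f E
  let K₀ := zeroIdeal (m := m) f
  let ι : MvPolynomial (Fin n) R →ₐ[R] MvPolynomial (Fin (n + m)) R := inclX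
  have hE' : ∀ l, ((E.map ι) *ᵥ hRel E) l ∈ K₀ * K := fun l => by
    have e : (E.map ι) *ᵥ hRel E = ((E - E * E).map ι) *ᵥ yVar := by
      rw [show hRel E = yVar - (E.map ι) *ᵥ yVar from rfl, Matrix.mulVec_sub, Matrix.mulVec_mulVec,
        ← Matrix.map_mul, Matrix.map_sub _ (map_sub ι), Matrix.sub_mulVec]
    rw [e]
    simp only [Matrix.mulVec, dotProduct]
    refine sum_mem fun j _ => ?_
    rw [mul_comm _ (yVar j)]
    refine Ideal.mul_mem_mul (Submodule.mem_sup_right (Ideal.subset_span (Set.mem_range_self j)))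
      (inclX_mem_tot f E (x := (E - E * E) l j) ?_)
    rw [hf, RingHom.mem_ker]
    have := h1 l j
    show φ ((E - E * E) l j) = 0
    rw [Matrix.sub_apply, map_sub] at this ⊢
    rw [← neg_sub, this, neg_zero]
  have hsq : ∀ x ∈ RingHom.ker φ.toRingHom * RingHom.ker φ.toRingHom, ι x ∈ K₀ * K := fun x hx => by
    refine (show RingHom.ker φ.toRingHom * RingHom.ker φ.toRingHom ≤ (K₀ * K).comap ι.toRingHom from
      Ideal.mul_le.2 fun a ha b hb => ?_) hx
    show ι (a * b) ∈ K₀ * K
    rw [map_mul]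
    exact Ideal.mul_mem_mul (tot_le_zero f E (inclX_mem_tot f E (hf.ge ha))) (inclX_mem_tot f E (hf.ge hb))
  have hfl : ∀ l, ι (f l) ∈ K₀ * K ⊔ G := fun l => by
    have e : ι (f l) = (ι (f l - (E *ᵥ f) l) - ((E.map ι) *ᵥ hRel E) l) + ((E.map ι) *ᵥ gRel f E) l := by
      rw [show gRel f E = ι ∘ f + hRel E from rfl, Matrix.mulVec_add, Pi.add_apply, map_sub,
        show ι ((E *ᵥ f) l) = ((E.map ι) *ᵥ (ι ∘ f)) l from RingHom.map_mulVec ι.toRingHom E f l]
      ring
    rw [e]
    exact add_mem (Submodule.mem_sup_left (sub_mem (hsq _ (h2 l)) (hE' l)))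
      (Submodule.mem_sup_right (mulVec_mem _ (fun j => Ideal.subset_span (Set.mem_range_self j)) l))
  have hK : K ≤ K₀ * K ⊔ G := by
    refine sup_le (Ideal.span_le.2 ?_) (Ideal.span_le.2 ?_)
    · rintro _ ⟨l, rfl⟩
      exact hfl l
    · rintro _ ⟨l, rfl⟩
      rw [show hRel E l = gRel f E l - ι (f l) from (add_sub_cancel_left _ _).symm]
      exact sub_mem (Submodule.mem_sup_right (Ideal.subset_span ⟨l, rfl⟩)) (hfl l)
  let q := Ideal.Quotient.mk G
  have hKfg : (K.map q).FG := Ideal.FG.map (Submodule.FG.sup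
    (Submodule.fg_span (Set.finite_range _)) (Submodule.fg_span (Set.finite_range _))) q
  have hle : K.map q ≤ K₀.map q • K.map q := by
    calc K.map q ≤ (K₀ * K ⊔ G).map q := Ideal.map_mono hK
      _ = _ := by rw [Ideal.map_sup, Ideal.map_mul, Ideal.map_quotient_self, sup_bot_eq, smul_eq_mul]
  obtain ⟨r, hr, hr0⟩ := Submodule.exists_sub_one_mem_and_smul_eq_zero_of_fg_of_le_smul _ _ hKfg hle
  obtain ⟨u, rfl⟩ := Ideal.Quotient.mk_surjective r
  refine ⟨u, ?_, fun x hx => ?_⟩
  · have : u - 1 ∈ (K₀.map q).comap q := by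
      show q (u - 1) ∈ K₀.map q
      rw [map_sub, map_one]
      exact hr
    rwa [Ideal.comap_map_of_surjective _ Ideal.Quotient.mk_surjective, ← RingHom.ker_eq_comap_bot, Ideal.mk_ker,
      sup_eq_left.2 ((gRel_le_tot f E).trans (tot_le_zero f E))] at this
  · rw [← Ideal.Quotient.eq_zero_iff_mem, map_mul]
    exact hr0 _ (Ideal.mem_map_of_mem q hx)

end Space

theorem exists_smooth_retract (h : Synt.IsSyntomic R A) :
    ∃ (N c : ℕ) (F : Fin c → MvPolynomial (Fin N) R), Synt.IsRelGCI R N c F ∧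
      Module.Flat R (Synt.RelGCIRing R N c F) ∧
      ∃ (_ : Algebra A (Synt.RelGCIRing R N c F)) (_ : IsScalarTower R A (Synt.RelGCIRing R N c F)),
        Algebra.Smooth A (Synt.RelGCIRing R N c F) ∧
        ∃ ρ : Synt.RelGCIRing R N c F →ₐ[R] A, ∀ a : A, ρ (algebraMap A (Synt.RelGCIRing R N c F) a) = a := by
  classical
  haveI := h.2.1
  obtain ⟨n, φ, hφ, hfg⟩ := h.2.1.out
  obtain ⟨m, f, hf⟩ := Submodule.fg_iff_exists_fin_generating_family.1 hfg
  obtain ⟨E, h1, h2, h3⟩ := exists_idem_matrix h φ hφ f hf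
  obtain ⟨u, hu, huK⟩ := exists_sub_one_mem_mul_mem hf h1 h2
  let B := MvPolynomial (Fin (n + m)) R
  let ι : MvPolynomial (Fin n) R →ₐ[R] B := inclX
  let K : Ideal B := totIdeal f E
  let C := B ⧸ K
  let mkC : B →ₐ[R] C := Ideal.Quotient.mkₐ R K
  let χ : (MvPolynomial (Fin n) R ⧸ RingHom.ker φ.toRingHom) →ₐ[R] C :=
    Ideal.Quotient.liftₐ _ (mkC.comp ι) fun x hx =>
      Ideal.Quotient.eq_zero_iff_mem.2 (inclX_mem_tot f E (hf.ge hx))
  let α : A →ₐ[R] C := χ.comp (Ideal.quotientKerAlgEquivOfSurjective hφ).symm.toAlgHom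
  have hα : ∀ x, α (φ x) = mkC (ι x) := fun x => by
    show χ ((Ideal.quotientKerAlgEquivOfSurjective hφ).symm (φ x)) = _
    rw [show (Ideal.quotientKerAlgEquivOfSurjective hφ).symm (φ x) = Ideal.Quotient.mk _ x from
      (Ideal.quotientKerAlgEquivOfSurjective hφ).symm_apply_eq.2 rfl]
    rfl
  letI : Algebra A C := α.toRingHom.toAlgebra
  haveI : IsScalarTower R A C := IsScalarTower.of_algebraMap_eq fun r => (α.commutes r).symm
  haveI : Algebra.FinitePresentation R C :=
    Algebra.FinitePresentation.quotient (Submodule.FG.sup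
      (Submodule.fg_span (Set.finite_range _)) (Submodule.fg_span (Set.finite_range _)))
  haveI : Algebra.FinitePresentation A C :=
    Algebra.FinitePresentation.of_restrict_scalars_finitePresentation R A C
  haveI : Algebra.FormallySmooth A C := by
    refine Algebra.FormallySmooth.iff_comp_surjective.2 fun S _ _ I hI g => ?_
    letI : Algebra R S := Algebra.compHom S (algebraMap R A)
    haveI : IsScalarTower R A S := IsScalarTower.of_algebraMap_eq' rfl
    let y : Fin m → C := fun j => mkC (yVar j)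
    choose yh hyh using fun j => Ideal.Quotient.mk_surjective (g (y j))
    let ε : MvPolynomial (Fin n) R →ₐ[R] S := (IsScalarTower.toAlgHom R A S).comp φ
    let η : Fin m → S := (E.map ε) *ᵥ yh
    let L : B →ₐ[R] S := aeval (Fin.addCases (fun i => ε (X i)) η : Fin (n + m) → S)
    have hLι : ∀ x, L (ι x) = ε x := fun x => by
      refine DFunLike.congr_fun (f := L.comp ι) (g := ε) (algHom_ext fun i => ?_) x
      exact (congrArg L (rename_X _ _)).trans ((aeval_X _ _).trans (Fin.addCases_left _))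
    have hLy : ∀ j, L (yVar j) = η j := fun j => (aeval_X _ _).trans (Fin.addCases_right _)
    have hLE : ∀ l, L (((E.map ι) *ᵥ yVar) l) = η l := fun l => by
      show L.toRingHom _ = _
      rw [RingHom.map_mulVec]
      have e1 : (E.map ι).map L.toRingHom = E.map ε := by ext i j; exact hLι _
      rw [e1]
      show ((E.map ε) *ᵥ (L ∘ yVar)) l = _
      rw [show (L ∘ yVar : Fin m → S) = η from funext hLy]
      show ((E.map ε) *ᵥ η) l = η l
      rw [Matrix.mulVec_mulVec, ← Matrix.map_mul]
      have e2 : (E * E).map ε = E.map ε := by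
        ext i j
        show algebraMap A S (φ ((E * E) i j)) = algebraMap A S (φ (E i j))
        rw [← sub_eq_zero, ← map_sub, ← map_sub, ← Matrix.sub_apply, h1, map_zero]
      rw [e2]
    have hLK : ∀ x ∈ K, L x = 0 := fun x hx => by
      refine sup_le (Ideal.span_le.2 ?_) (Ideal.span_le.2 ?_) hx (c := RingHom.ker L.toRingHom)
      · rintro _ ⟨l, rfl⟩
        show L (ι (f l)) = 0
        rw [hLι]
        show algebraMap A S (φ (f l)) = 0
        rw [show φ (f l) = 0 from hf.le (Ideal.subset_span ⟨l, rfl⟩), map_zero]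
      · rintro _ ⟨l, rfl⟩
        show L (yVar l - ((E.map ι) *ᵥ yVar) l) = 0
        rw [map_sub, hLy, hLE, sub_self]
    let L' : C →ₐ[R] S := Ideal.Quotient.liftₐ K L hLK
    have hL' : ∀ a : A, L' (algebraMap A C a) = algebraMap A S a := fun a => by
      obtain ⟨x, rfl⟩ := hφ a
      show L' (α (φ x)) = _
      rw [hα]
      exact hLι x
    refine ⟨{ L'.toRingHom with commutes' := hL' }, ?_⟩
    have hyE : ∀ l, g (y l) = Ideal.Quotient.mk I (η l) := fun l => by
      have e0 : y l = ((E.map (fun x => algebraMap A C (φ x))) *ᵥ y) l := by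
        rw [show (E.map (fun x => algebraMap A C (φ x))) = (E.map ι).map mkC.toRingHom from by
          ext i j; exact hα _]
        show mkC (yVar l) = ((E.map ι).map mkC.toRingHom *ᵥ (mkC.toRingHom ∘ yVar)) l
        rw [← RingHom.map_mulVec]
        exact Ideal.Quotient.eq.2 (Submodule.mem_sup_right (Ideal.subset_span ⟨l, rfl⟩))
      rw [e0]
      show g (∑ j, algebraMap A C (φ (E l j)) * y j) = Ideal.Quotient.mk I (∑ j, ε (E l j) * yh j)
      rw [map_sum, map_sum]
      refine Finset.sum_congr rfl fun j _ => ?_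
      rw [map_mul, map_mul, AlgHom.commutes, hyh]
      rfl
    have hgens : ((Ideal.Quotient.mkₐ R I).comp L).comp (AlgHom.id R B) = (g.restrictScalars R).comp mkC := by
      refine algHom_ext fun i => ?_
      refine Fin.addCases (fun i => ?_) (fun j => ?_) i
      · show Ideal.Quotient.mk I (L (X (Fin.castAdd m i))) = g (mkC (X (Fin.castAdd m i)))
        rw [show (X (Fin.castAdd m i) : B) = ι (X i) from (rename_X _ _).symm, hLι, ← hα]
        exact (g.commutes (φ (X i))).symm
      · show Ideal.Quotient.mk I (L (yVar j)) = g (y j)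
        rw [hLy, hyE]
    ext z
    obtain ⟨b, rfl⟩ := Ideal.Quotient.mk_surjective z
    exact DFunLike.congr_fun hgens b
  haveI : Algebra.Smooth A C := ⟨inferInstance, inferInstance⟩
  let uC : C := mkC u
  let Cu := Localization.Away uC
  haveI : Algebra.Smooth A Cu := Algebra.Smooth.comp A C Cu
  let G := Ideal.span (Set.range (gRel f E))
  let π : Synt.RelGCIRing R (n + m) m (gRel f E) →ₐ[R] C :=
    Ideal.Quotient.liftₐ G mkC fun x hx => Ideal.Quotient.eq_zero_iff_mem.2 (gRel_le_tot f E hx)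
  have hπ : Function.Surjective π := fun z => by
    obtain ⟨b, rfl⟩ := Ideal.Quotient.mk_surjective z
    exact ⟨Ideal.Quotient.mk G b, rfl⟩
  obtain ⟨e1⟩ := CI2.nonempty_away_equiv_of_surjective π hπ (Ideal.Quotient.mk G u) fun x hx => by
    obtain ⟨x, rfl⟩ := Ideal.Quotient.mk_surjective x
    exact ⟨1, by
      rw [pow_one, ← map_mul, Ideal.Quotient.eq_zero_iff_mem]
      exact huK x (Ideal.Quotient.eq_zero_iff_mem.1 hx)⟩
  obtain ⟨e2⟩ := CI2.nonempty_awayEquiv (gRel f E) u
  let e : Cu ≃ₐ[R] Synt.RelGCIRing R (n + m + 1) (m + 1) (CI2.awayRel (gRel f E) u) := e1.trans e2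
  have hdim : FibDimLE R C n := fibDimLE_of_cover fun z => by
    obtain ⟨H, c, a, b, hH, hcn, hAd, -, hW⟩ := exists_matrix_frame h φ hφ f hf E h3
      (PrimeSpectrum.comap (algebraMap A C) z)
    refine ⟨algebraMap A C (φ H), hH, ?_⟩
    let g := algebraMap A C (φ H)
    let Cg := Localization.Away g
    let γ : A →ₐ[R] Cg := (IsScalarTower.toAlgHom R C Cg).comp α
    let β : Localization.Away (φ H) →ₐ[R] Cg := IsLocalization.Away.liftAlgHom (φ H) (f := γ)
      (IsLocalization.Away.algebraMap_isUnit g)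
    have hβ : ∀ x, β (algebraMap A _ x) = algebraMap C Cg (algebraMap A C x) := fun x =>
      IsLocalization.Away.lift_eq (g := γ.toRingHom) (φ H) (IsLocalization.Away.algebraMap_isUnit g) x
    letI : Algebra (Localization.Away (φ H)) Cg := β.toRingHom.toAlgebra
    haveI : IsScalarTower R (Localization.Away (φ H)) Cg :=
      IsScalarTower.of_algebraMap_eq fun r => (β.commutes r).symm
    let zc : Fin c → Cg := fun i => algebraMap C Cg (mkC ((((a * E).map ι) *ᵥ yVar) i))
    let Θ : MvPolynomial (Fin c) (Localization.Away (φ H)) →ₐ[R] Cg :=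
      (aeval zc : MvPolynomial (Fin c) (Localization.Away (φ H)) →ₐ[Localization.Away (φ H)] Cg).restrictScalars R
    have hΘC : ∀ x, Θ (MvPolynomial.C x) = β x := fun x => aeval_C _ _
    have hΘX : ∀ i, Θ (X i) = zc i := fun i => aeval_X _ _
    let inv := β (IsLocalization.Away.invSelf (φ H))
    have hinv : algebraMap C Cg g * inv = 1 := by
      rw [← hβ (φ H), ← map_mul, IsLocalization.Away.mul_invSelf, map_one]
    have hg : mkC (ι H) = g := (hα H).symm
    have hy : ∀ j, algebraMap C Cg (mkC (yVar j)) ∈ Θ.range := fun j => by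
      have e0 : mkC (ι H * yVar j) = mkC (((b.map ι) *ᵥ (((a * E).map ι) *ᵥ yVar)) j) := by
        have hz : ∀ l i, mkC (((H • (1 : Matrix (Fin m) (Fin m) (MvPolynomial (Fin n) R)) - b * a) * E).map ι l i) = 0 :=
          fun l i => Ideal.Quotient.eq_zero_iff_mem.2 (inclX_mem_tot f E (hf.ge (hW l i)))
        have h4 : mkC ((((H • (1 : Matrix (Fin m) (Fin m) (MvPolynomial (Fin n) R)) - b * a) * E).map ι *ᵥ yVar) j) = 0 := by
          simp only [Matrix.mulVec, dotProduct, map_sum, map_mul, hz, zero_mul, Finset.sum_const_zero]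
        have hEy : mkC (yVar j) = mkC (((E.map ι) *ᵥ yVar) j) :=
          Ideal.Quotient.eq.2 (Submodule.mem_sup_right (Ideal.subset_span ⟨j, rfl⟩))
        rw [map_mul, hEy, ← map_mul, ← sub_eq_zero, ← map_sub]
        refine Eq.trans (congrArg mkC ?_) h4
        rw [Matrix.sub_mul, Matrix.smul_mul, Matrix.one_mul, Matrix.map_sub _ (map_sub ι), Matrix.sub_mulVec,
          Pi.sub_apply, Matrix.mul_assoc b a E, Matrix.map_mul, ← Matrix.mulVec_mulVec]
        congr 1
        · simp [Matrix.mulVec, dotProduct, Finset.mul_sum, mul_assoc]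
        · simp only [Matrix.map_mul, ← Matrix.mulVec_mulVec]
      have e1 : algebraMap C Cg (mkC (yVar j)) = inv * algebraMap C Cg (mkC (ι H * yVar j)) := by
        rw [map_mul, map_mul, hg, ← mul_assoc, mul_comm inv, hinv, one_mul]
      rw [e1, e0]
      refine mul_mem ⟨MvPolynomial.C _, hΘC _⟩ ?_
      simp only [Matrix.mulVec, dotProduct, map_sum, map_mul]
      refine sum_mem fun i _ => mul_mem ?_ ?_
      · refine ⟨MvPolynomial.C (algebraMap A _ (φ (b j i))), (hΘC _).trans ?_⟩
        rw [hβ]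
        exact congrArg _ (hα _)
      · refine ⟨X i, (hΘX i).trans ?_⟩
        simp only [zc, Matrix.mulVec, dotProduct, map_sum, map_mul]
    have hsurj : Function.Surjective Θ := by
      intro x
      obtain ⟨⟨d, _, k, rfl⟩, hk⟩ := IsLocalization.surj (Submonoid.powers g) x
      have hd : ∀ b₀ : B, algebraMap C Cg (mkC b₀) ∈ Θ.range := fun b₀ => by
        induction b₀ using MvPolynomial.induction_on with
        | C r =>
          rw [← MvPolynomial.algebraMap_eq, AlgHom.commutes, ← IsScalarTower.algebraMap_apply]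
          exact Subalgebra.algebraMap_mem _ r
        | add p q hp hq => rw [map_add, map_add]; exact add_mem hp hq
        | mul_X p i hp =>
          rw [map_mul, map_mul]
          refine mul_mem hp ?_
          refine Fin.addCases (fun i => ?_) (fun j => hy j) i
          refine ⟨MvPolynomial.C (algebraMap A _ (φ (X i))), (hΘC _).trans ?_⟩
          rw [hβ, show (algebraMap A C) (φ (X i)) = mkC (ι (X i)) from hα _]
          exact congrArg (fun z => algebraMap C Cg (mkC z)) (rename_X _ _)
      obtain ⟨b₀, rfl⟩ := Ideal.Quotient.mk_surjective d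
      have hx : x = algebraMap C Cg (mkC b₀) * inv ^ k := by
        show x = algebraMap C Cg (Ideal.Quotient.mk K b₀) * inv ^ k
        rw [← hk]
        show x = x * algebraMap C Cg (g ^ k) * inv ^ k
        rw [map_pow, mul_assoc, ← mul_pow, hinv, one_pow, mul_one]
      rw [hx]
      exact mul_mem (hd b₀) (pow_mem (show inv ∈ Θ.range from ⟨MvPolynomial.C _, hΘC _⟩) k)
    haveI : Algebra.FiniteType R (Localization.Away (φ H)) :=
      Algebra.FiniteType.trans (S := A) inferInstance (IsLocalization.finiteType_of_monoid_fg (Submonoid.powers (φ H)) _)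
    have := fibDimLE_of_surjective Θ hsurj (fibDimLE_mvPolynomial hAd c)
    rwa [show n - c + c = n by omega] at this
  have hrel : Synt.IsRelGCI R (n + m + 1) (m + 1) (CI2.awayRel (gRel f E) u) :=
    isRelGCI_of_fibDimLE (by omega) (by
      rw [show n + m + 1 - (m + 1) = n by omega]
      exact fibDimLE_congr e (fibDimLE_away hdim uC))
  refine ⟨_, _, _, hrel, (CI2.isSyntomic_of_isRelGCI hrel).1, ?_⟩
  let α' : A →ₐ[R] Synt.RelGCIRing R (n + m + 1) (m + 1) (CI2.awayRel (gRel f E) u) :=
    e.toAlgHom.comp (IsScalarTower.toAlgHom R A Cu)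
  letI alg : Algebra A (Synt.RelGCIRing R (n + m + 1) (m + 1) (CI2.awayRel (gRel f E) u)) := α'.toRingHom.toAlgebra
  refine ⟨alg, IsScalarTower.of_algebraMap_eq fun r => (α'.commutes r).symm,
    Algebra.Smooth.of_equiv (AlgEquiv.ofRingEquiv (f := e.toRingEquiv) fun _ => rfl), ?_⟩
  let ρB : B →ₐ[R] A := aeval (Fin.addCases (fun i => φ (X i)) (fun _ => 0) : Fin (n + m) → A)
  have hρι : ∀ x, ρB (ι x) = φ x := fun x => by
    refine DFunLike.congr_fun (f := ρB.comp ι) (g := φ) (algHom_ext fun i => ?_) x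
    exact (congrArg ρB (rename_X _ _)).trans ((aeval_X _ _).trans (Fin.addCases_left _))
  have hρ0 : zeroIdeal (m := m) f ≤ RingHom.ker ρB.toRingHom := by
    refine sup_le (Ideal.span_le.2 ?_) (Ideal.span_le.2 ?_)
    · rintro _ ⟨l, rfl⟩
      show ρB (ι (f l)) = 0
      rw [hρι]
      exact hf.le (Ideal.subset_span ⟨l, rfl⟩)
    · rintro _ ⟨l, rfl⟩
      show ρB (yVar l) = 0
      exact (aeval_X _ _).trans (Fin.addCases_right _)
  let ρC : C →ₐ[R] A := Ideal.Quotient.liftₐ K ρB fun x hx => hρ0 (tot_le_zero f E hx)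
  have hρu : ρC uC = 1 := by
    have := hρ0 hu
    rw [RingHom.mem_ker] at this
    show ρB u = 1
    rw [← sub_eq_zero, ← map_one ρB, ← map_sub]
    exact this
  let ρu : Cu →ₐ[R] A := IsLocalization.Away.liftAlgHom uC (f := ρC) (by rw [hρu]; exact isUnit_one)
  refine ⟨ρu.comp e.symm.toAlgHom, fun a => ?_⟩
  show ρu (e.symm (e (algebraMap A Cu a))) = a
  rw [AlgEquiv.symm_apply_apply, IsScalarTower.algebraMap_apply A C Cu]
  obtain ⟨x, rfl⟩ := hφ a
  refine (IsLocalization.Away.lift_eq (g := ρC.toRingHom) uC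
    (show IsUnit (ρC uC) by rw [hρu]; exact isUnit_one) _).trans ?_
  show ρC (α (φ x)) = φ x
  rw [hα]
  exact hρι x

end Groth.Agent.SyntLift3
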